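import Groth.Agent.PBundle.Sec
import Groth.Agent.W7Slope.Basic
import Groth.Agent.ZeroSch.Basic
import Groth.Agent.ProjMor.Sym
import Groth.Agent.DerPerf.Local
import Groth.Agent.CohFinite.Ample
import Groth.Prelude.Def_LinSer
import Groth.Prelude.Def_Omega3
import Mathlib

/-!
The morphism to projective space of a linear series on a regular curve.
-/

set_option autoImplicit false
set_option linter.style.haveILetI false
set_option backward.isDefEq.respectTransparency false

universe u

open CategoryTheory CategoryTheory.Limits AlgebraicGeometry TopologicalSpace Opposite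
open Groth.Agent.QC (res res_self res_res app_res)

noncomputable section

namespace Groth.Agent.LinSerMap

/-- Quotients of free modules are generated by the images of the basis sections. -/
theorem generatedBy_of_epi {X : Scheme.{u}} {L : X.Modules} {m : ℕ} (φ : FlatMod.freeMod X m ⟶ L) [Epi φ]
    (t : Fin m → ProjUP.Γm L)
    (ht : ∀ i, Sigma.ι (fun _ : Fin m => Coh.structureModule X) i ≫ φ = TMul.homOf (L := L) (t i)) :
    ProjUP.GeneratedBy L t := by
  classical
  intro x
  refine eq_top_iff.2 fun z _ => ?_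
  let δ : Fin m → (FlatMod.freeMod X m ⟶ Coh.structureModule X) := fun i =>
    Sigma.desc fun j => if j = i then 𝟙 _ else 0
  have hid : (∑ i, δ i ≫ Sigma.ι (fun _ : Fin m => Coh.structureModule X) i) = 𝟙 (FlatMod.freeMod X m) := by
    refine Sigma.hom_ext _ _ fun j => ?_
    rw [Preadditive.comp_sum, Finset.sum_eq_single j]
    · simp [δ]
    · intro i _ hij
      simp [δ, Ne.symm hij]
    · simp
  have hsur := (ModuleCat.epi_iff_surjective ((DerSch.stalkFunctor X x).map φ)).1 inferInstance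
  obtain ⟨y, rfl⟩ := hsur z
  obtain ⟨W, hxW, y, rfl⟩ := TopCat.Presheaf.exists_germ_eq (C := Ab.{u}) (FlatMod.freeMod X m).presheaf (x := x) y
  have e1 : Algz.stalkMapAb φ x ((FlatMod.freeMod X m).presheaf.germ W x hxW y) =
      L.presheaf.germ W x hxW (φ.app W y) :=
    TopCat.Presheaf.stalkFunctor_map_germ_apply W x hxW φ.mapPresheaf y
  change Algz.stalkMapAb φ x ((FlatMod.freeMod X m).presheaf.germ W x hxW y) ∈ _
  rw [e1]
  let ev : (FlatMod.freeMod X m ⟶ L) →+ Γ(L, W) := AddMonoidHom.mk' (fun ψ => ψ.app W y) fun _ _ => rfl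
  have hy : φ.app W y = ∑ i, (show Γ(X, W) from (δ i).app W y) • res L le_top (t i) := by
    rw [show φ = ∑ i, δ i ≫ Sigma.ι (fun _ : Fin m => Coh.structureModule X) i ≫ φ by
      conv_lhs => rw [← Category.id_comp φ, ← hid, Preadditive.sum_comp]
      exact Finset.sum_congr rfl fun i _ => Category.assoc _ _ _]
    refine (map_sum ev _ _).trans (Finset.sum_congr rfl fun i _ => ?_)
    change (Sigma.ι (fun _ : Fin m => Coh.structureModule X) i ≫ φ).app W ((δ i).app W y) = _
    rw [ht]
    refine (TMul.app_eq_smul _ _).trans ?_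
    congr 1
    exact TMul.val_homOf _ _
  rw [hy, map_sum]
  refine Submodule.sum_mem _ fun i _ => ?_
  change ProjMor.gs L hxW ((show Γ(X, W) from (δ i).app W y) • res L le_top (t i)) ∈ _
  rw [ProjMor.gs_smul, ProjMor.gs_res le_top hxW]
  exact Submodule.smul_mem _ _ (Submodule.subset_span ⟨i, rfl⟩)

theorem isFinLocFreeOfRank_freeMod (X : Scheme.{u}) (m : ℕ) :
    FlatMod.IsFinLocFreeOfRank m (FlatMod.freeMod X m) :=
  fun _ => ⟨⊤, trivial, ⟨(Scheme.Modules.restrictFunctorIsoPullback (⊤ : X.Opens).ι).app _ ≪≫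
    Groth.Agent.DerPerf.pullFreeIso (⊤ : X.Opens).ι m⟩⟩

variable {k : Type u} [Field k] {X : Scheme.{u}} [X.Over (Spec (CommRingCat.of k))]
  [IsProper (X ↘ Spec (CommRingCat.of k))] [IsIntegral X]

theorem exists_morphism (hX : W7Slope.RegCurve X) {r d : ℕ} {L : X.Modules}
    (s : Fin (r + 1) → LinSer.Sect X L) (hL : LinSer.IsLinSer k X L d r s) :
    ∃ (φ : X ⟶ CohB1.ProjSpace r k) (α : (Scheme.Modules.pullback φ).obj (Twist.twistProjSpace r k 1) ⟶ L),
      φ ≫ CohB1.ProjSpace.toSpec r k = X ↘ (Spec (CommRingCat.of k)) ∧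
      ∀ i : Fin (r + 1), α.app ⊤
        (ProjUP.pullSec φ (Twist.twistProjSpace r k 1) (ProjUP.coord r k i)) = s i := by
  classical
  obtain ⟨hLi, -, hind⟩ := hL
  let f : FlatMod.freeMod X (r + 1) ⟶ L := Sigma.desc fun i => TMul.homOf (L := L) (s i)
  obtain ⟨I, p, j, hp, hj, hpj, hIr, -, -, hle, -, hpos⟩ := W7Slope.exists_image k hX
    (isFinLocFreeOfRank_freeMod X (r + 1)) (CurveRR.isFinLocFreeOfRank_one hLi) f
  have hf : f ≠ 0 := fun h0 => by
    have h1 : s 0 = 0 := by
      have h2 := TMul.val_homOf (L := L) (s 0) ⊤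
      rw [res_self, show TMul.homOf (L := L) (s 0) = Sigma.ι (fun _ : Fin (r + 1) => Coh.structureModule X) 0 ≫ f from
        (Sigma.ι_desc (fun i => TMul.homOf (L := L) (s i)) 0).symm, h0, comp_zero] at h2
      exact h2.symm.trans rfl
    have h2 := hind (Pi.single 0 1) (Finset.sum_eq_zero fun i _ => by
      by_cases hi : i = 0
      · subst hi; rw [h1, smul_zero]
      · rw [Pi.single_eq_of_ne hi, map_zero, zero_smul])
    exact one_ne_zero (α := k) (by simpa using congrFun h2 0)
  have hI1 : W7Slope.grk I = 1 := le_antisymm hle (hpos hf)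
  rw [hI1] at hIr
  let t : Fin (r + 1) → ProjUP.Γm I := fun i => TMul.val (Sigma.ι (fun _ : Fin (r + 1) => Coh.structureModule X) i ≫ p) ⊤
  have ht : ∀ i, Sigma.ι (fun _ : Fin (r + 1) => Coh.structureModule X) i ≫ p = TMul.homOf (L := I) (t i) :=
    fun i => (CohFinite.homOf_val _).symm
  obtain ⟨φ, hφ, τ, hτ⟩ := ProjMor.exists_projSpace (X ↘ Spec (CommRingCat.of k))
    (ZeroSch.isInvertible_of_rankOne hIr) t (generatedBy_of_epi p t ht)
  refine ⟨φ, τ.hom ≫ j, hφ, fun i => ?_⟩
  show j.app ⊤ (τ.hom.app ⊤ _) = _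
  rw [hτ]
  show TMul.val ((Sigma.ι (fun _ : Fin (r + 1) => Coh.structureModule X) i ≫ p) ≫ j) ⊤ = _
  rw [Category.assoc, hpj, Sigma.ι_desc, TMul.val_homOf, res_self]

end Groth.Agent.LinSerMap
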